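import Cfsg.Agent.H571.EP.QElt
import Cfsg.Agent.H571.EP.Kill
import Cfsg.Agent.H408.EP.OmC3E

/-!
# S3499: the row Om-C3, `|F| = 2`, self-adjoint extension fields of degree two (helper571)
-/

set_option autoImplicit false
set_option linter.unusedSectionVars false

namespace Cfsg.Agent.H571.EP

open QuadraticMap Matrix Module
open Cfsg.Agent.LieClassical.OrthCore Cfsg.Agent.LieClassical.OrthTrans Cfsg.Agent.LieClassical.OrthFinite
open Cfsg.Agent.H284 Cfsg.Agent.H419.EP Cfsg.Agent.H925 Cfsg.Agent.H458.EP Cfsg.Agent.H408.EP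
open Cfsg.Agent.ClassicalGeometry.OrthDickson Cfsg.Agent.ClassicalGeometry.OrthCharTwo
open Cfsg.Agent.H571.EP.Two

/-- **Row Om-C3, `|F| = 2`, `r = 2`, `K` self-adjoint.** -/
theorem omC3Q : Cfsg.Agent.H778.EP.OmRow fun F _ _ ι _ _ Qf H =>
    ∃ (K : Subalgebra F (Matrix ι ι F)), Fintype.card F = 2 ∧ Cfsg.Geo.IsFieldSubalgebra 2 K ∧
      Cfsg.Geo.IsSelfAdjointFor (QuadraticMap.polar Qf) K ∧ H ≤ Cfsg.Geo.subalgebraNormalizer K := by
  intro G _ _ _ A Γ hEPT F _ _ ι _ _ Qf m h7 hQ ⟨K, hF, hK, hself, hA⟩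
  have hne : Nonempty ι := Fintype.card_pos_iff.1 (by omega)
  obtain ⟨E, _, _, _, _, _, hrE, hEK, hKE⟩ := exists_field hK
  obtain ⟨ω, h⟩ := exists_om (F := F) (E := E) hF hrE
  have hfdE : FiniteDimensional F E := Module.finite_of_finrank_pos (by omega)
  have hND := nondeg_qf hQ
  have hfinrank : finrank F (ι → F) = Fintype.card ι := Module.finrank_fintype_fun_eq_card F
  have hn : 7 ≤ finrank F (ι → F) := by rw [hfinrank]; exact h7
  obtain ⟨QE, hnd, hval, hpol, h4⟩ := exists_kform (Q := qf hQ) h hND (by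
    intro k x y
    obtain ⟨M, hM, hk⟩ := hEK k
    rw [hk, hk]
    exact hself M hM x y)
  have hd : 3 ≤ finrank E (ι → F) := by
    have h1 := Module.finrank_mul_finrank F E (ι → F)
    rw [hrE] at h1
    omega
  obtain ⟨e₁, e₂, D⟩ := exists_dat h hnd hd
  obtain ⟨e, t, pe, pt, he1, ht1, hβ⟩ := exists_et h hnd D hd
  have he : QE e ≠ 0 := by rw [he1]; exact one_ne_zero
  have ht : QE t ≠ 0 := by rw [ht1]; exact one_ne_zero
  have hw : qf hQ ((ω + 1) • e₁) ≠ 0 := by rw [Q_ww h D hval]; exact one_ne_zero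
  -- the elements of `Ω`
  have hiso : ∀ s ∈ O (qf hQ), (glEquiv ι F).symm s ∈ Cfsg.isometryGroup F Qf := by
    intro s hs
    rw [mem_iso_iff]
    intro w
    rw [← glEquiv_apply, MulEquiv.apply_symm_apply]
    exact hs w
  have hcommm : ∀ s ∈ O (qf hQ), ∀ t ∈ O (qf hQ), (glEquiv ι F).symm (s * t * s⁻¹ * t⁻¹) ∈ Cfsg.Geo.omegaGL Qf := by
    intro s hs t ht
    rw [map_mul, map_mul, map_mul, map_inv, map_inv]
    exact commutator_mem_omegaGL (hiso s hs) (hiso t ht)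
  have hyO : (yy h D).restrictScalars F ∈ O (qf hQ) := res_mem hval (yy_mem h D)
  have hres : ∀ S T : (ι → F) ≃ₗ[E] (ι → F), (S * T * S⁻¹ * T⁻¹).restrictScalars F =
      S.restrictScalars F * T.restrictScalars F * (S.restrictScalars F)⁻¹ * (T.restrictScalars F)⁻¹ :=
    fun S T => LinearEquiv.ext fun v => rfl
  obtain ⟨x, hxS, hx⟩ : ∃ x : GL ι F, x ∈ Cfsg.Geo.omegaGL Qf ∧ glEquiv ι F x = xx h D hw := by
    refine ⟨(glEquiv ι F).symm (xx h D hw), ?_, MulEquiv.apply_symm_apply _ _⟩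
    have hr : refl (qf hQ) ((ω + 1) • e₁) hw ∈ O (qf hQ) := refl_mem_O hw
    have h1 := hcommm _ hr _ hyO
    unfold xx
    convert h1 using 2
  obtain ⟨y, hyS, hy⟩ : ∃ y : GL ι F, y ∈ Cfsg.Geo.omegaGL Qf ∧ glEquiv ι F y = (yy h D).restrictScalars F := by
    refine ⟨(glEquiv ι F).symm ((yy h D).restrictScalars F), ?_, MulEquiv.apply_symm_apply _ _⟩
    rw [yy, hres]
    exact hcommm _ (res_mem hval (refl_mem_O D.q1')) _ (res_mem hval (refl_mem_O (D.q2' h)))
  obtain ⟨a, haS, ha⟩ : ∃ a : GL ι F, a ∈ Cfsg.Geo.omegaGL Qf ∧ glEquiv ι F a = (aa he ht).restrictScalars F := by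
    refine ⟨(glEquiv ι F).symm ((aa he ht).restrictScalars F), ?_, MulEquiv.apply_symm_apply _ _⟩
    rw [aa, hres]
    exact hcommm _ (res_mem hval (refl_mem_O he)) _ (res_mem hval (refl_mem_O ht))
  -- semilinear maps
  have hsemi : ∀ g : GL ι F, g ∈ Cfsg.Geo.subalgebraNormalizer K → ∃ k : E, ∀ v, glEquiv ι F g (ω • v) = k • glEquiv ι F g v := by
    intro g hg
    obtain ⟨M, hM, hk⟩ := hEK ω
    obtain ⟨k', hk'⟩ := hKE _ ((hg M).1 hM)
    refine ⟨k', fun y => ?_⟩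
    rw [glEquiv_apply, glEquiv_apply, hk, hk', Matrix.mulVec_mulVec, Matrix.mulVec_mulVec]
    congr 1
    rw [mul_assoc, ← Units.val_mul, inv_mul_cancel, Units.val_one, mul_one]
  have hnz : ∃ v : ι → F, v ≠ 0 := ⟨e, fun hcon => he (by rw [hcon, QuadraticMap.map_zero])⟩
  have hSemi : ∀ g : GL ι F, g ∈ Cfsg.Geo.subalgebraNormalizer K → Semi ω (glEquiv ι F g) := by
    intro g hg
    obtain ⟨k, hk⟩ := hsemi g hg
    obtain ⟨v, hv⟩ := hnz
    rcases h.all k with e0 | e0 | e0 | e0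
    · exfalso
      have h1 := hk v
      rw [e0, zero_smul, LinearEquiv.map_eq_zero_iff, smul_eq_zero] at h1
      rcases h1 with h1 | h1
      · exact h.ne_zero h1
      · exact hv h1
    · exfalso
      have h1 := hk v
      rw [e0, one_smul] at h1
      have h2 := (glEquiv ι F g).injective h1
      have h3 : (ω - 1) • v = 0 := by rw [sub_smul, h2, one_smul, sub_self]
      rcases smul_eq_zero.1 h3 with h3 | h3
      · exact h.ne_one (sub_eq_zero.1 h3)
      · exact hv h3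
    · left; rw [e0] at hk; exact hk
    · right; rw [e0] at hk; exact hk
  have hnorm : ∀ (T : (ι → F) ≃ₗ[E] (ι → F)) (g : GL ι F), glEquiv ι F g = T.restrictScalars F →
      g ∈ Cfsg.Geo.subalgebraNormalizer K := by
    intro T g hg
    apply mem_normalizer_of_comm
    intro M hM
    obtain ⟨k, hk⟩ := hKE M hM
    apply Matrix.mulVec_injective
    funext w
    rw [← Matrix.mulVec_mulVec, ← Matrix.mulVec_mulVec, ← hk, ← hk, ← glEquiv_apply, ← glEquiv_apply, hg]
    exact T.map_smul k w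
  have hxK : x ∉ Cfsg.Geo.subalgebraNormalizer K := by
    intro hcon
    obtain ⟨k, hk⟩ := hsemi x hcon
    rw [hx] at hk
    exact xx_not h D hval hpol hw hk
  have hhat : m.hat A = Cfsg.Geo.subalgebraNormalizer K ⊓ Cfsg.Geo.omegaGL Qf :=
    hat_eq m hEPT.max hA fun hcon => hxK (hcon hxS)
  have hmem : ∀ g : GL ι F, g ∈ m.hat A ↔ g ∈ Cfsg.Geo.subalgebraNormalizer K ∧ g ∈ Cfsg.Geo.omegaGL Qf := by
    intro g
    rw [hhat, Subgroup.mem_inf]
  have hxA : x ∉ m.hat A := fun hcon => hxK ((hmem x).1 hcon).1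
  have hyA : y ∈ m.hat A := (hmem y).2 ⟨hnorm _ y hy, hyS⟩
  have haA : a ∈ m.hat A := (hmem a).2 ⟨hnorm _ a ha, haS⟩
  -- `a` commutes with `x`
  have hax : a * x = x * a := by
    apply (glEquiv ι F).injective
    rw [map_mul, map_mul, hx, ha]
    apply LinearEquiv.ext
    intro v
    exact aa_xx h D hval hpol hw he ht he1 ht1 hβ pe pt v
  have haM : a ∈ m.hat A ⊓ cj x (m.hat A) := by
    refine ⟨haA, ?_⟩
    show a ∈ cj x (m.hat A)
    rw [mem_cj]
    have h1 : x⁻¹ * a * x = a := by rw [mul_assoc, hax, inv_mul_cancel_left]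
    rw [h1]
    exact haA
  have ha4 : a ^ 4 ∉ Cfsg.Geo.scalars ι F := by
    intro hcon
    obtain ⟨c, hc⟩ := (Cfsg.Geo.mem_scalars_iff _).1 hcon
    have hc1 : (c : F) = 1 := by
      rcases h.f2 (c : F) with h1 | h1
      · exact absurd h1 c.ne_zero
      · exact h1
    rw [hc1, one_smul] at hc
    have h1 : glEquiv ι F (a ^ 4) e = e := by rw [glEquiv_apply, hc, Matrix.one_mulVec]
    rw [map_pow, ha] at h1
    exact aa_four h he ht he1 ht1 hβ h1
  -- the main point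
  have hkey : ∀ b ∈ m.hat A ⊓ cj x (m.hat A), y * b ^ 4 = b ^ 4 * y := by
    intro b hb
    obtain ⟨hb1, hb2⟩ := Subgroup.mem_inf.1 hb
    rw [mem_cj] at hb2
    have hs1 := hSemi b ((hmem b).1 hb1).1
    have hs2 := hSemi _ ((hmem _).1 hb2).1
    rw [map_mul, map_mul, map_inv, hx] at hs2
    have hbO : glEquiv ι F b ∈ O (qf hQ) := by
      intro v
      rw [glEquiv_apply]
      exact mem_iso_iff.1 (omegaGL_le_iso Qf ((hmem b).1 hb1).2) v
    apply (glEquiv ι F).injective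
    rw [map_mul, map_mul, map_pow, hy]
    apply LinearEquiv.ext
    intro v
    exact (comm_four h hnd D hval hpol h4 hw hrE hn hbO hs1 hs2 v).symm
  have hfin := kill_pow m hEPT hxS hxA 4 ⟨a, haM, ha4⟩ hyA hkey
  rw [mem_cj] at hfin
  obtain ⟨k, hk⟩ := hsemi _ ((hmem _).1 hfin).1
  refine yx_not h D hval hpol hw (z := fun v => glEquiv ι F (x⁻¹ * y * x) v) ?_ hk
  intro v
  rw [map_mul, map_mul, map_inv, hx, hy]
  exact (xx h D hw).apply_symm_apply _

end Cfsg.Agent.H571.EP
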