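import Cfsg.Agent.H571.EP.QComm

/-!
# `y ^ x` is not semilinear; the element `a` (helper571, S3499 Om-C3, q = 2)
-/

set_option autoImplicit false
set_option linter.unusedSectionVars false

namespace Cfsg.Agent.H571.EP.Two

open QuadraticMap Module
open Cfsg.Agent.LieClassical.OrthCore Cfsg.Agent.LieClassical.OrthTrans Cfsg.Agent.LieClassical.OrthFinite

section

variable {F E V : Type*} [Field F] [Field E] [Algebra F E] [AddCommGroup V] [Module F V]
  [Module E V] [IsScalarTower F E V] {Q : QuadraticForm F V} {QE : QuadraticForm E V} {ω : E} {e₁ e₂ : V}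

theorem xx_coord (h : Om F ω) (D : Dat QE ω e₁ e₂) (hval : ∀ v, Q v = Algebra.trace F E (QE v))
    (hpol : ∀ u v, polar Q u v = Algebra.trace F E (polar QE u v)) (hw : Q ((ω + 1) • e₁) ≠ 0) (a b : E) :
    xx h D hw (a • e₁ + b • e₂) = (a + (ω * b + b * b + (ω + 1) * (a + a * a))) • e₁ + (b + (a + a * a)) • e₂ := by
  rw [xx_apply h D hval hpol, D.coA h, D.coB h]
  module

/-- `x` is not semilinear -/
theorem xx_not (h : Om F ω) (D : Dat QE ω e₁ e₂) (hval : ∀ v, Q v = Algebra.trace F E (QE v))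
    (hpol : ∀ u v, polar Q u v = Algebra.trace F E (polar QE u v)) (hw : Q ((ω + 1) • e₁) ≠ 0) {k : E}
    (hk : ∀ v, xx h D hw (ω • v) = k • xx h D hw v) : False := by
  have h1 := hk ((1 : E) • e₁ + (0 : E) • e₂)
  have e1 : ω • ((1 : E) • e₁ + (0 : E) • e₂) = ω • e₁ + (0 : E) • e₂ := by module
  rw [e1, xx_coord h D hval hpol, xx_coord h D hval hpol] at h1
  have h2 := congrArg (polar QE e₁) h1
  rw [D.coB h, polar_smul_right, D.coB h, smul_eq_mul] at h2
  have h3 : (1 : E) = 0 := by
    linear_combination h2 - h.sq + (k - ω) * h.two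
  exact one_ne_zero h3

/-- `y ^ x` is not semilinear -/
theorem yx_not (h : Om F ω) (D : Dat QE ω e₁ e₂) (hval : ∀ v, Q v = Algebra.trace F E (QE v))
    (hpol : ∀ u v, polar Q u v = Algebra.trace F E (polar QE u v)) (hw : Q ((ω + 1) • e₁) ≠ 0) {k : E} {z : V → V}
    (hz : ∀ v, xx h D hw (z v) = yy h D (xx h D hw v)) (hk : ∀ v, z (ω • v) = k • z v) : False := by
  have h1 : z ((1 : E) • e₁ + (0 : E) • e₂) = (0 : E) • e₁ + ω • e₂ := by
    apply (xx h D hw).injective
    rw [hz, xx_coord h D hval hpol, xx_coord h D hval hpol, yy_coord]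
    congr 2
    · linear_combination (1 + ω - ω * ω) * h.two
    · linear_combination (ω * ω + 2 * ω) * h.two
  have h2 := hz (ω • ((1 : E) • e₁ + (0 : E) • e₂))
  have e1 : ω • ((1 : E) • e₁ + (0 : E) • e₂) = ω • e₁ + (0 : E) • e₂ := by module
  have e2 : k • ((0 : E) • e₁ + ω • e₂) = (0 : E) • e₁ + (k * ω) • e₂ := by module
  rw [hk, h1, e1, e2, xx_coord h D hval hpol, xx_coord h D hval hpol, yy_coord] at h2
  have h3 := congrArg (polar QE e₁) h2
  rw [D.coB h, D.coB h] at h3
  have h4 := congrArg (polar QE e₂) h2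
  rw [D.coA h, D.coA h] at h4
  have h5 : k * ω = 0 := by
    linear_combination h3 + (ω * ω) * h.sq + (2 * ω * ω + 2 * ω ^ 3) * h.two
  have h6 : ω + 1 = 0 := by
    linear_combination (-1 : E) * h4 + (ω + k * ω) * h5 - (ω + 1) * h.sq + (-1 * ω - 1 * ω * ω) * h.two
  exact h.wne h6

/-- `a = [s_e, s_t]` -/
def aa {e t : V} (he : QE e ≠ 0) (ht : QE t ≠ 0) : V ≃ₗ[E] V :=
  refl QE e he * refl QE t ht * (refl QE e he)⁻¹ * (refl QE t ht)⁻¹

theorem Om.cube_all (h : Om F ω) {k : E} (hk : k ≠ 0) : k * k * k = 1 := by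
  have h1 : k * (k * k * k - 1) = 0 := by linear_combination h.pow_four k
  rcases mul_eq_zero.1 h1 with h2 | h2
  · exact absurd h2 hk
  · exact sub_eq_zero.1 h2

theorem aa_apply (h : Om F ω) {e t : V} (he : QE e ≠ 0) (ht : QE t ≠ 0) (he1 : QE e = 1) (ht1 : QE t = 1) {β : E}
    (hβ : polar QE e t = β) (hβ0 : β ≠ 0) (v : V) :
    aa he ht v = v + (β * polar QE e v + β * β * polar QE t v) • t +
      (β * β * polar QE e v + (β + 1) * polar QE t v) • e := by
  set u := polar QE e v with hu
  set w := polar QE t v with hw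
  have hβ' : polar QE t e = β := by rw [polar_comm]; exact hβ
  have e0 : aa he ht v = refl QE e he (refl QE t ht (refl QE e he (refl QE t ht v))) := by
    rw [aa, refl_inv, refl_inv]
    rfl
  have e1 : refl QE t ht v = v + w • t := by
    rw [refl_apply, ht1, inv_one, one_mul, ← hw, sub_eq_add_neg, ← neg_smul, h.neg]
  have e2 : refl QE e he (v + w • t) = v + w • t + (u + w * β) • e := by
    rw [refl_apply, he1, inv_one, one_mul, sub_eq_add_neg, ← neg_smul, h.neg, polar_add_right, polar_smul_right, hβ,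
      ← hu, smul_eq_mul]
  have e3 : refl QE t ht (v + w • t + (u + w * β) • e) = v + w • t + (u + w * β) • e + (w + (u + w * β) * β) • t := by
    rw [refl_apply, ht1, inv_one, one_mul, sub_eq_add_neg, ← neg_smul, h.neg, polar_add_right, polar_add_right,
      polar_smul_right, polar_smul_right, h.alt, hβ', ← hw, smul_zero, add_zero, smul_eq_mul]
  have e4 : refl QE e he (v + w • t + (u + w * β) • e + (w + (u + w * β) * β) • t) =
      v + w • t + (u + w * β) • e + (w + (u + w * β) * β) • t + (u + w * β + (w + (u + w * β) * β) * β) • e := by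
    rw [refl_apply, he1, inv_one, one_mul, sub_eq_add_neg, ← neg_smul, h.neg, polar_add_right, polar_add_right,
      polar_add_right, polar_smul_right, polar_smul_right, polar_smul_right, hβ, h.alt, ← hu, smul_zero, add_zero,
      smul_eq_mul, smul_eq_mul]
  rw [e0, e1, e2, e3, e4]
  have hc := h.cube_all hβ0
  have e5 : w + (w + (u + w * β) * β) = β * u + β * β * w := by
    linear_combination w * h.two
  have e6 : u + w * β + (u + w * β + (w + (u + w * β) * β) * β) = β * β * u + (β + 1) * w := by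
    linear_combination w * hc + (u + w * β) * h.two
  rw [← e5, ← e6]
  module

theorem aa_fix (h : Om F ω) {e t : V} (he : QE e ≠ 0) (ht : QE t ≠ 0) (he1 : QE e = 1) (ht1 : QE t = 1)
    (hβ0 : polar QE e t ≠ 0) {v : V} (h1 : polar QE e v = 0) (h2 : polar QE t v = 0) : aa he ht v = v := by
  rw [aa_apply h he ht he1 ht1 rfl hβ0, h1, h2]
  simp

/-- `a` commutes with `x` -/
theorem aa_xx (h : Om F ω) (D : Dat QE ω e₁ e₂) (hval : ∀ v, Q v = Algebra.trace F E (QE v))
    (hpol : ∀ u v, polar Q u v = Algebra.trace F E (polar QE u v)) (hw : Q ((ω + 1) • e₁) ≠ 0)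
    {e t : V} (he : QE e ≠ 0) (ht : QE t ≠ 0) (he1 : QE e = 1) (ht1 : QE t = 1)
    (hβ0 : polar QE e t ≠ 0) (pe : Per QE e₁ e₂ e) (pt : Per QE e₁ e₂ t) (v : V) :
    aa he ht (xx h D hw v) = xx h D hw (aa he ht v) := by
  have f1 : aa he ht e₁ = e₁ :=
    aa_fix h he ht he1 ht1 hβ0 (by rw [polar_comm]; exact pe.2) (by rw [polar_comm]; exact pt.2)
  have f2 : aa he ht e₂ = e₂ :=
    aa_fix h he ht he1 ht1 hβ0 (by rw [polar_comm]; exact pe.1) (by rw [polar_comm]; exact pt.1)
  have g1 : polar QE e₁ (aa he ht v) = polar QE e₁ v := by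
    rw [aa_apply h he ht he1 ht1 rfl hβ0, polar_add_right, polar_add_right, polar_smul_right, polar_smul_right, pe.2,
      pt.2, smul_zero, smul_zero, add_zero, add_zero]
  have g2 : polar QE e₂ (aa he ht v) = polar QE e₂ v := by
    rw [aa_apply h he ht he1 ht1 rfl hβ0, polar_add_right, polar_add_right, polar_smul_right, polar_smul_right, pe.1,
      pt.1, smul_zero, smul_zero, add_zero, add_zero]
  rw [xx_apply h D hval hpol, xx_apply h D hval hpol, g1, g2, map_add, map_add, map_smul, map_smul, f1, f2]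

/-- `a ^ 4 ≠ 1` -/
theorem aa_four (h : Om F ω) {e t : V} (he : QE e ≠ 0) (ht : QE t ≠ 0) (he1 : QE e = 1) (ht1 : QE t = 1)
    (hβ0 : polar QE e t ≠ 0) : aa he ht (aa he ht (aa he ht (aa he ht e))) ≠ e := by
  set β := polar QE e t with hβ
  have hβ' : polar QE t e = β := by rw [polar_comm]
  have hc := h.cube_all hβ0
  have h1 : ∀ s m : E, aa he ht (s • e + m • t) = ((1 + β + β * β) * s + m) • e + (s + (1 + β * β) * m) • t := by
    intro s m
    have hu : polar QE e (s • e + m • t) = m * β := by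
      rw [polar_add_right, polar_smul_right, polar_smul_right, h.alt, smul_zero, zero_add, smul_eq_mul]
    have hw : polar QE t (s • e + m • t) = s * β := by
      rw [polar_add_right, polar_smul_right, polar_smul_right, h.alt, hβ', smul_zero, add_zero, smul_eq_mul]
    rw [aa_apply h he ht he1 ht1 hβ.symm hβ0, hu, hw]
    have e5 : (1 + β + β * β) * s + m = s + (β * β * (m * β) + (β + 1) * (s * β)) := by
      linear_combination (-m) * hc
    have e6 : s + (1 + β * β) * m = m + (β * (m * β) + β * β * (s * β)) := by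
      linear_combination (-s) * hc
    rw [e5, e6]
    module
  have h2 : ∀ s m : E, aa he ht (aa he ht (s • e + m • t)) =
      ((β + β * β) * s + β * m) • e + (β * s + β * m) • t := by
    intro s m
    rw [h1, h1]
    congr 2
    · linear_combination (s * β + 2 * s) * hc + (m + m * β * β + 2 * s + s * β * β + β * s) * h.two
    · linear_combination (m * β) * hc + (m + m * β * β + s + s * β * β) * h.two
  intro hcon
  have e1 : (1 : E) • e + (0 : E) • t = e := by module
  have h3 : aa he ht (aa he ht (aa he ht (aa he ht e))) =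
      ((β + β * β) * ((β + β * β) * 1 + β * 0) + β * (β * 1 + β * 0)) • e +
        (β * ((β + β * β) * 1 + β * 0) + β * (β * 1 + β * 0)) • t := by
    have h5 := h2 ((β + β * β) * 1 + β * 0) (β * 1 + β * 0)
    rw [← h2, e1] at h5
    exact h5
  rw [hcon] at h3
  have h4 := congrArg (polar QE e) h3
  rw [h.alt, polar_add_right, polar_smul_right, polar_smul_right, h.alt, ← hβ, smul_zero, zero_add, smul_eq_mul] at h4
  apply hβ0
  linear_combination (-1 : E) * h4 - β * hc - (β * β * β) * h.two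

/-- the vectors `e`, `t` -/
theorem exists_et (h : Om F ω) (hnd : Nondeg QE) (D : Dat QE ω e₁ e₂) (hd : 3 ≤ finrank E V) :
    ∃ e t : V, Per QE e₁ e₂ e ∧ Per QE e₁ e₂ t ∧ QE e = 1 ∧ QE t = 1 ∧ polar QE e t ≠ 0 := by
  obtain ⟨a, ha0, ha⟩ := exists_perp_ne (Q := QE) ![e₂, e₁] (by omega)
  have pa : Per QE e₁ e₂ a := ⟨ha 0, ha 1⟩
  obtain ⟨z, hz⟩ := hnd.exists_polar_eq ha0 1
  obtain ⟨c, pc, hac⟩ : ∃ c, Per QE e₁ e₂ c ∧ polar QE a c = 1 := by
    refine ⟨z - (polar QE e₂ z • e₁ + polar QE e₁ z • e₂), ⟨?_, ?_⟩, ?_⟩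
    · rw [polar_sub_right, D.coA h, sub_self]
    · rw [polar_sub_right, D.coB h, sub_self]
    · rw [polar_sub_right, hz, polar_add_right, polar_smul_right, polar_smul_right, polar_comm _ a e₁, polar_comm _ a e₂,
        pa.1, pa.2, smul_zero, smul_zero, add_zero, sub_zero]
  have padd : ∀ {u v}, Per QE e₁ e₂ u → Per QE e₁ e₂ v → Per QE e₁ e₂ (u + v) := by
    intro u v hu hv
    exact ⟨by rw [polar_add_right, hu.1, hv.1, add_zero], by rw [polar_add_right, hu.2, hv.2, add_zero]⟩
  have step : ∀ {u v}, Per QE e₁ e₂ u → Per QE e₁ e₂ v → QE u ≠ 0 → QE v = 0 → polar QE u v = 1 →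
      ∃ u v, Per QE e₁ e₂ u ∧ Per QE e₁ e₂ v ∧ QE u ≠ 0 ∧ QE v ≠ 0 ∧ polar QE u v ≠ 0 := by
    intro u v hu hv hqu hqv huv
    by_cases h1 : QE u = 1
    · refine ⟨u, v + ω • u, hu, padd hv (hu.smul ω), hqu, ?_, ?_⟩
      · rw [Q_add, QuadraticMap.map_smul, polar_smul_right, polar_comm, huv, hqv, h1, zero_add, smul_eq_mul, smul_eq_mul,
          mul_one, mul_one, h.sq]
        intro hcon
        apply one_ne_zero (α := E)
        linear_combination hcon - ω * h.two
      · rw [polar_add_right, polar_smul_right, huv, h.alt, smul_zero, add_zero]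
        exact one_ne_zero
    · refine ⟨u, v + u, hu, padd hv hu, hqu, ?_, ?_⟩
      · rw [Q_add, polar_comm, huv, hqv, zero_add]
        intro hcon
        apply h1
        linear_combination hcon - h.two
      · rw [polar_add_right, huv, h.alt, add_zero]
        exact one_ne_zero
  obtain ⟨u, v, hu, hv, hqu, hqv, huv⟩ :
      ∃ u v, Per QE e₁ e₂ u ∧ Per QE e₁ e₂ v ∧ QE u ≠ 0 ∧ QE v ≠ 0 ∧ polar QE u v ≠ 0 := by
    by_cases h1 : QE a = 0
    · by_cases h2 : QE c = 0
      · refine ⟨a + c, a + ω • c, padd pa pc, padd pa (pc.smul ω), ?_, ?_, ?_⟩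
        · rw [Q_add, h1, h2, hac, add_zero, zero_add]
          exact one_ne_zero
        · rw [Q_add, QuadraticMap.map_smul, polar_smul_right, h1, h2, hac, smul_zero, add_zero, zero_add, smul_eq_mul,
            mul_one]
          exact h.ne_zero
        · rw [polar_add_left, polar_add_right, polar_add_right, polar_smul_right, polar_smul_right, h.alt, h.alt, hac,
            polar_comm _ c a, hac, smul_zero, add_zero, zero_add, smul_eq_mul, mul_one]
          exact h.wne
      · exact step pc pa h2 h1 (by rw [polar_comm]; exact hac)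
    · by_cases h2 : QE c = 0
      · exact step pa pc h1 h2 hac
      · exact ⟨a, c, pa, pc, h1, h2, by rw [hac]; exact one_ne_zero⟩
  have hsc : ∀ {u}, QE u ≠ 0 → QE (((QE u)⁻¹ * (QE u)⁻¹) • u) = 1 := by
    intro u hu
    rw [QuadraticMap.map_smul, smul_eq_mul, h.pow_four, inv_mul_cancel₀ hu]
  refine ⟨_, _, hu.smul _, hv.smul _, hsc hqu, hsc hqv, ?_⟩
  rw [polar_smul_left, polar_smul_right, smul_eq_mul, smul_eq_mul]
  exact mul_ne_zero (mul_ne_zero (inv_ne_zero hqu) (inv_ne_zero hqu))
    (mul_ne_zero (mul_ne_zero (inv_ne_zero hqv) (inv_ne_zero hqv)) huv)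

end

end Cfsg.Agent.H571.EP.Two
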