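import Cfsg.Agent.H571.EP.QData

/-!
# Semilinear `g` with `g ^ x` semilinear preserve the plane (helper571, S3499 Om-C3, q = 2)
-/

set_option autoImplicit false
set_option linter.unusedSectionVars false

namespace Cfsg.Agent.H571.EP.Two

open QuadraticMap Module
open Cfsg.Agent.LieClassical.OrthCore Cfsg.Agent.LieClassical.OrthTrans Cfsg.Agent.LieClassical.OrthFinite

section

variable {F E V : Type*} [Field F] [Field E] [Algebra F E] [AddCommGroup V] [Module F V]
  [Module E V] [IsScalarTower F E V] {Q : QuadraticForm F V} {QE : QuadraticForm E V} {ω : E} {e₁ e₂ : V}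

/-- coordinates -/
theorem Dat.coord (h : Om F ω) (D : Dat QE ω e₁ e₂) {s t : E} (hst : s • e₁ + t • e₂ = 0) : s = 0 ∧ t = 0 := by
  have h1 : polar QE e₂ (s • e₁ + t • e₂) = s := by
    rw [polar_add_right, polar_smul_right, polar_smul_right, D.p', h.alt, smul_eq_mul, mul_one, smul_zero, add_zero]
  have h2 : polar QE e₁ (s • e₁ + t • e₂) = t := by
    rw [polar_add_right, polar_smul_right, polar_smul_right, D.p, h.alt, smul_zero, zero_add, smul_eq_mul, mul_one]
  rw [hst, polar_zero_right] at h1 h2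
  exact ⟨h1.symm, h2.symm⟩

theorem Om.cube (h : Om F ω) : ω * ω * ω = 1 := by
  linear_combination (ω + 1) * h.sq + ω * h.two

theorem Om.wne (h : Om F ω) : ω + 1 ≠ 0 := by
  intro e
  have := h.sq
  rw [e] at this
  exact h.ne_zero (mul_self_eq_zero.1 this)

/-- `x` commutes with `ω` at `v` only if `v ⟂ U`. -/
theorem xx_ker (h : Om F ω) (D : Dat QE ω e₁ e₂) (hval : ∀ v, Q v = Algebra.trace F E (QE v))
    (hpol : ∀ u v, polar Q u v = Algebra.trace F E (polar QE u v)) (hw : Q ((ω + 1) • e₁) ≠ 0) {v : V}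
    (hv : xx h D hw (ω • v) = ω • xx h D hw v) : polar QE e₂ v = 0 ∧ polar QE e₁ v = 0 := by
  rw [xx_apply h D hval hpol, xx_apply h D hval hpol, polar_smul_right, polar_smul_right, smul_eq_mul, smul_eq_mul] at hv
  set a := polar QE e₂ v with ha
  set b := polar QE e₁ v with hb
  have h1 : (ω * (ω * b) + (ω * b) * (ω * b) + (ω + 1) * (ω * a + (ω * a) * (ω * a)) -
      ω * (ω * b + b * b + (ω + 1) * (a + a * a))) • e₁ + (ω * a + (ω * a) * (ω * a) - ω * (a + a * a)) • e₂ = 0 := by
    rw [← sub_eq_zero] at hv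
    rw [← hv]
    module
  obtain ⟨h2, h3⟩ := D.coord h h1
  have h4 : a = 0 := by
    have : a * a = 0 := by
      linear_combination h3 - a * a * h.sq
    exact mul_self_eq_zero.1 this
  rw [h4] at h2
  refine ⟨h4, ?_⟩
  have : b * b = 0 := by
    linear_combination h2 - b * b * h.sq
  exact mul_self_eq_zero.1 this

theorem xx_mix (h : Om F ω) (D : Dat QE ω e₁ e₂) (hval : ∀ v, Q v = Algebra.trace F E (QE v))
    (hpol : ∀ u v, polar Q u v = Algebra.trace F E (polar QE u v)) (hw : Q ((ω + 1) • e₁) ≠ 0) {v : V}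
    (hv : xx h D hw (ω • v) = (ω + 1) • xx h D hw v) (h0 : polar QE e₂ v = 0) : v = 0 := by
  rw [xx_apply h D hval hpol, xx_apply h D hval hpol, polar_smul_right, polar_smul_right, smul_eq_mul, smul_eq_mul, h0] at hv
  set b := polar QE e₁ v with hb
  have h1 : v = (ω * (ω * b) + (ω * b) * (ω * b) - (ω + 1) * (ω * b + b * b)) • e₁ := by
    rw [← sub_eq_zero] at hv ⊢
    rw [← neg_eq_zero, ← hv]
    module
  have h2 : b = 0 := by
    rw [hb, h1, polar_smul_right, h.alt, smul_zero]
  rw [h2] at h1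
  rw [h1]
  simp

/-- `g` is semilinear -/
def Semi (ω : E) (g : V ≃ₗ[F] V) : Prop := (∀ v, g (ω • v) = ω • g v) ∨ ∀ v, g (ω • v) = (ω + 1) • g v

theorem semi_inv (h : Om F ω) {g : V ≃ₗ[F] V} (hg : Semi ω g) : Semi ω g⁻¹ := by
  rcases hg with hg | hg
  · left
    intro v
    apply g.injective
    rw [hg]
    show g (g.symm _) = ω • g (g.symm v)
    rw [LinearEquiv.apply_symm_apply, LinearEquiv.apply_symm_apply]
  · right
    intro v
    apply g.injective
    rw [add_smul, one_smul, map_add, hg]
    show g (g.symm _) = (ω + 1) • g (g.symm v) + g (g.symm v)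
    rw [LinearEquiv.apply_symm_apply, LinearEquiv.apply_symm_apply]
    have : (ω + 1) • v + v = ω • v + (1 + 1 : E) • v := by module
    rw [this, h.add_self, zero_smul, add_zero]

/-- The perp of the plane -/
def Per (QE : QuadraticForm E V) (e₁ e₂ v : V) : Prop := polar QE e₂ v = 0 ∧ polar QE e₁ v = 0

theorem xx_fix (h : Om F ω) (D : Dat QE ω e₁ e₂) (hval : ∀ v, Q v = Algebra.trace F E (QE v))
    (hpol : ∀ u v, polar Q u v = Algebra.trace F E (polar QE u v)) (hw : Q ((ω + 1) • e₁) ≠ 0) {v : V}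
    (hv : Per QE e₁ e₂ v) : xx h D hw v = v := by
  rw [xx_apply h D hval hpol, hv.1, hv.2]
  simp

theorem Per.smul {v : V} (hv : Per QE e₁ e₂ v) (k : E) : Per QE e₁ e₂ (k • v) := by
  refine ⟨?_, ?_⟩
  · rw [polar_smul_right, hv.1, smul_zero]
  · rw [polar_smul_right, hv.2, smul_zero]

/-- `g` preserves the perp of the plane. -/
theorem per_pres [FiniteDimensional F V] (h : Om F ω) (D : Dat QE ω e₁ e₂) (hval : ∀ v, Q v = Algebra.trace F E (QE v))
    (hpol : ∀ u v, polar Q u v = Algebra.trace F E (polar QE u v)) (hw : Q ((ω + 1) • e₁) ≠ 0)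
    (hE : finrank F E = 2) (hn : 7 ≤ finrank F V) {g : V ≃ₗ[F] V}
    (hg : Semi ω g) (hg' : Semi ω ((xx h D hw)⁻¹ * g * xx h D hw)) {v : V} (hv : Per QE e₁ e₂ v) : Per QE e₁ e₂ (g v) := by
  have hfix : ∀ {v}, Per QE e₁ e₂ v → xx h D hw v = v := fun hv => xx_fix h D hval hpol hw hv
  have hker : ∀ {v}, xx h D hw (ω • v) = ω • xx h D hw v → Per QE e₁ e₂ v := fun e => xx_ker h D hval hpol hw e
  have hmix : ∀ {v}, xx h D hw (ω • v) = (ω + 1) • xx h D hw v → polar QE e₂ v = 0 → v = 0 :=
    fun e e' => xx_mix h D hval hpol hw e e'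
  generalize xx h D hw = x at hfix hker hmix hg'
  have hxg : ∀ v, x ((x⁻¹ * g * x) v) = g (x v) := by
    intro v
    show x (x.symm (g (x v))) = _
    rw [LinearEquiv.apply_symm_apply]
  generalize x⁻¹ * g * x = g' at hxg hg'
  have key : ∀ {v}, Per QE e₁ e₂ v → x (g' v) = g v := fun hv => by rw [hxg, hfix hv]
  -- same scalars
  have same : ∀ {v}, Per QE e₁ e₂ v → x (ω • g' v) = ω • x (g' v) → Per QE e₁ e₂ (g v) := by
    intro v hv e
    have h1 := hker e
    have h2 : g' v = g v := by
      rw [← key hv]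
      exact (hfix h1).symm
    rw [← h2]
    exact h1
  -- different scalars
  have diff : ¬ ∀ {v}, Per QE e₁ e₂ v → x (ω • g' v) = (ω + 1) • x (g' v) := by
    intro hd
    have hfd : FiniteDimensional F E := Module.finite_of_finrank_pos (by omega)
    let φ : V →ₗ[F] E × E × E :=
      { toFun := fun v => (polar QE e₂ v, polar QE e₁ v, polar QE e₂ (g' v))
        map_add' := fun v w => by
          rw [map_add, polar_add_right, polar_add_right, polar_add_right]
          rfl
        map_smul' := fun c v => by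
          rw [map_smul, ← algebraMap_smul E c v, ← algebraMap_smul E c (g' v), polar_smul_right, polar_smul_right,
            polar_smul_right, RingHom.id_apply, algebraMap_smul, algebraMap_smul, algebraMap_smul]
          rfl }
    have h1 : finrank F (E × E × E) < finrank F V := by
      rw [finrank_prod, finrank_prod, hE]
      omega
    have h0 : LinearMap.ker φ ≠ ⊥ := LinearMap.ker_ne_bot_of_finrank_lt h1
    obtain ⟨v, hv, hv0⟩ := Submodule.exists_mem_ne_zero_of_ne_bot h0
    rw [LinearMap.mem_ker] at hv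
    have h2 : polar QE e₂ v = 0 := congrArg Prod.fst hv
    have h3 : polar QE e₁ v = 0 := congrArg (fun z => z.2.1) hv
    have h4 : polar QE e₂ (g' v) = 0 := congrArg (fun z => z.2.2) hv
    have h5 := hmix (hd ⟨h2, h3⟩) h4
    exact hv0 ((LinearEquiv.map_eq_zero_iff g').1 h5)
  rcases hg with hg | hg <;> rcases hg' with hg' | hg'
  · apply same hv
    rw [← hg', key (hv.smul ω), hg, key hv]
  · exfalso
    apply diff
    intro v hv
    have h1 : x ((ω + 1) • g' v) = ω • x (g' v) := by
      rw [← hg', key (hv.smul ω), hg, key hv]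
    have h2 : x (ω • g' v) = x ((ω + 1) • g' v) + x (g' v) := by
      rw [← map_add]
      congr 1
      have : (ω + 1) • g' v + g' v = ω • g' v + (1 + 1 : E) • g' v := by module
      rw [this, h.add_self, zero_smul, add_zero]
    rw [h2, h1, add_smul, one_smul]
  · exfalso
    apply diff
    intro v hv
    rw [← hg', key (hv.smul ω), hg, key hv]
  · apply same hv
    have h1 : x ((ω + 1) • g' v) = (ω + 1) • x (g' v) := by
      rw [← hg', key (hv.smul ω), hg, key hv]
    have h2 : x (ω • g' v) = x ((ω + 1) • g' v) + x (g' v) := by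
      rw [← map_add]
      congr 1
      have : (ω + 1) • g' v + g' v = ω • g' v + (1 + 1 : E) • g' v := by module
      rw [this, h.add_self, zero_smul, add_zero]
    rw [h2, h1]
    have : (ω + 1) • x (g' v) + x (g' v) = ω • x (g' v) + (1 + 1 : E) • x (g' v) := by module
    rw [this, h.add_self, zero_smul, add_zero]

end

end Cfsg.Agent.H571.EP.Two
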